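import Cfsg.Agent.H852.RatB.One
import Cfsg.Agent.S0907

/-!
# TEAM B0-RAT: no exact prime (helper852)

If the Galois group acts on `Irr(G)` through a 2-group (`TOdd r G` for `r ∈ L`, `GenL`) then `B₀(p)` contains a
nontrivial rational character for every `p` for which `G` has a rational `p`-element `x ≠ 1`:
`Σ_{χ ∈ B₀(p)} χ(1) χ(x) = 0`.
-/

set_option autoImplicit false

open Subgroup
open scoped ComplexConjugate

namespace Cfsg.Agent.H852.RatB

open Cfsg Cfsg.Agent.Characters.Core Cfsg.Agent.Blocks Cfsg.Agent.SmallSimple Cfsg.Agent.Characters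
open Cfsg.Agent.H602.B0R Cfsg.Agent.H702.BR Cfsg.Agent.H145.BR

universe u

/-- the odd parts of the inertia groups of the `r ∈ L` generate a subgroup of 2-power index of `(ZMod o)ˣ` -/
def GenL (o : ℕ) (L : List ℕ) : Prop :=
  ∀ H : Subgroup (ZMod o)ˣ,
    (∀ r ∈ L, ∀ u : (ZMod o)ˣ, (u : ZMod o).val ≡ 1 [MOD o / r ^ o.factorization r] → Odd (orderOf u) → u ∈ H) →
    ∀ u : (ZMod o)ˣ, ∃ c : ℕ, u ^ (2 ^ c) ∈ H

variable {G : Type u} [Group G] [Finite G]

theorem rowQ_all {p : ℕ} [hp : Fact p.Prime] {x : G} (hx : p ∣ orderOf x) (hrx : RatEl x) {L : List ℕ}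
    (hL : ∀ r ∈ L, r.Prime ∧ TOdd r G) (hg : ∀ g : G, GenL (orderOf g) L) {M : Ideal AlgInt}
    (hM : IsPModular p M) : ∃ χ : IrrCharacter G, χ ∈ principalBlock M G ∧ (χ : G → ℂ) ≠ (fun _ => 1) ∧
      ∀ g : G, ∃ z : ℤ, (χ : G → ℂ) g = z := by
  classical
  have := Fintype.ofFinite G
  have := finite_irr (G := G)
  have := Fintype.ofFinite (IrrCharacter G)
  have hdeg : ∀ χ : IrrCharacter G, ∃ n : ℕ, (χ : G → ℂ) 1 = n := fun χ => by
    obtain ⟨n, -, hn⟩ := isIrr_apply_one χ.2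
    exact ⟨n, hn⟩
  have hval : ∀ χ : IrrCharacter G, ∃ z : ℤ, (χ : G → ℂ) 1 * conj ((χ : G → ℂ) x) = z := by
    intro χ
    obtain ⟨z, hz⟩ := int_of_ratEl hrx χ
    obtain ⟨n, hn⟩ := hdeg χ
    refine ⟨n * z, ?_⟩
    rw [hz, hn, map_intCast]
    push_cast
    rfl
  choose f hf using hval
  let F : Finset (IrrCharacter G) := Finset.univ.filter fun χ => χ ∈ principalBlock M G
  have hF : ∀ χ, χ ∈ F ↔ χ ∈ principalBlock M G := fun χ => by simp [F]
  let one : IrrCharacter G := ⟨fun _ => (1 : ℂ), isIrr_one⟩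
  have := Local.isPrime_of_isPModular hM
  have hone1 : one ∈ principalBlock M G := PrincipalSection.one_mem_principalBlock
  have hsum : ∑ χ ∈ F, f χ = 0 := by
    have h1 := S0907.result p M hM (principalBlock M G) ⟨one, rfl⟩ 1 x
      (by rw [orderOf_one]; exact fun h => hp.out.one_lt.ne' (Nat.dvd_one.1 h)) hx
    have h2 : ((∑ χ ∈ F, f χ : ℤ) : ℂ) = 0 := by
      rw [← h1, finsum_mem_eq_finite_toFinset_sum _ (Set.toFinite _)]
      push_cast
      refine Finset.sum_congr ?_ fun χ hχ => (hf χ).symm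
      ext χ
      simp [F]
    exact_mod_cast h2
  have hfone : f one = 1 := by
    have h1 := hf one
    have h2 : (one : G → ℂ) 1 * conj ((one : G → ℂ) x) = 1 := by
      show (1 : ℂ) * conj (1 : ℂ) = 1
      rw [map_one, mul_one]
    rw [h2] at h1
    exact_mod_cast h1.symm
  let Y : Set (IrrCharacter G) := {χ | (χ ∈ principalBlock M G ∧ (χ : G → ℂ) ≠ fun _ => 1) ∧ Odd (f χ)}
  have hYodd : Odd (Nat.card Y) := by
    have h1 : (F.erase one).sum f = -1 := by
      have h2 : f one + (F.erase one).sum f = ∑ χ ∈ F, f χ :=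
        Finset.add_sum_erase F f ((hF one).2 hone1)
      rw [hfone, hsum] at h2
      omega
    have h2 := card_odd_mod (F.erase one) f
    have h3 : Nat.card Y = ((F.erase one).filter fun χ => Odd (f χ)).card := by
      rw [Nat.card_eq_fintype_card, Fintype.card_of_subtype]
      intro χ
      rw [Finset.mem_filter, Finset.mem_erase, hF]
      constructor
      · rintro ⟨⟨h4, h5⟩, h7⟩
        exact ⟨⟨h5, fun h8 => h4 (Subtype.ext h8)⟩, h7⟩
      · rintro ⟨⟨h4, h6⟩, h7⟩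
        exact ⟨⟨fun h8 => h6 (congrArg Subtype.val h8), h4⟩, h7⟩
    rw [h3, Nat.odd_iff]
    rw [h1] at h2
    omega
  obtain ⟨χ, ⟨⟨h1, h3⟩, -⟩, h4⟩ := core Y hYodd (fun χ hχ k hk => by
    obtain ⟨⟨h1, h3⟩, h4⟩ := hχ
    have h5 := tw_mem hk h1
    refine ⟨⟨h5, fun h7 => h3 ?_⟩, ?_⟩
    · funext g
      obtain ⟨m, hm⟩ := exists_pow_eq_self_of_coprime (x := g) (n := k)
        (hk.coprime_dvd_right (orderOf_dvd_natCard g))
      have h8 := congrFun h7 (g ^ m)
      rw [tw_apply, ← pow_mul, mul_comm, pow_mul, hm] at h8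
      exact h8
    · have h7 : f (tw k hk χ) = f χ := by
        have h8 := hf (tw k hk χ)
        rw [tw_apply, tw_apply, one_pow, classFunction_apply_eq (isIrr_isClassFunction χ.2) (hrx k hk), hf χ] at h8
        exact_mod_cast h8.symm
      rw [h7]
      exact h4) (fun χ hχ k hk => by
    refine fix_of_local (fun g k hk => ?_) hk
    have : NeZero (orderOf g) := ⟨(orderOf_pos g).ne'⟩
    have hk' : k.Coprime (orderOf g) := hk.coprime_dvd_right (orderOf_dvd_natCard g)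
    obtain ⟨c, hc⟩ := hg g (locStab χ g) (fun r hr u hu ho => tOdd_local (hL r hr).1 (hL r hr).2 χ g hu ho)
      (ZMod.unitOfCoprime k hk')
    refine ⟨c, ?_⟩
    rw [mem_locStab] at hc
    rw [← hc]
    exact congrArg _ (pow_eq_of_modEq dvd_rfl ((val_pow_modEq _ _).trans ((val_unitOfCoprime hk').pow _)).symm))
  exact ⟨χ, h1, h3, exists_int h4⟩

/-- **The row without exact primes.** -/
theorem rowQ_of_all {p : ℕ} [hp : Fact p.Prime] {x : G} (hx : p ∣ orderOf x) (hrx : RatEl x) {L : List ℕ}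
    (hL : ∀ r ∈ L, r.Prime ∧ TOdd r G) (hg : ∀ g : G, GenL (orderOf g) L) : RowQ p G := by
  intro M hM
  obtain ⟨χ, h1, h2, h3⟩ := rowQ_all hx hrx hL hg hM
  exact ⟨χ, h1, h2, fun g => by
    obtain ⟨k, hk⟩ := h3 g
    exact ⟨(k : ℚ), by rw [hk]; push_cast; rfl⟩⟩

end Cfsg.Agent.H852.RatB
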