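import Cfsg.Agent.H153.RatB.Fi
import Cfsg.Agent.H256.B0R.BRows
import Cfsg.Agent.H256.B0R.MathRows
import Cfsg.Agent.H305.RatB.JThree
import Cfsg.Agent.H315.RatB.ON
import Cfsg.Agent.H436.B0M
import Cfsg.Agent.H436.B7
import Cfsg.Agent.H436.RuThree
import Cfsg.Agent.H493.RatB.Co1
import Cfsg.Agent.H493.RatB.Co2
import Cfsg.Agent.H493.RatB.HS
import Cfsg.Agent.H493.RatB.McL
import Cfsg.Agent.H493.RatB.WitS
import Cfsg.Agent.H495.RatB.ON
import Cfsg.Agent.H495.RatB.ON19
import Cfsg.Agent.H495.RatB.Ru13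
import Cfsg.Agent.H528.RatB.He
import Cfsg.Agent.H528.RatB.HeFive
import Cfsg.Agent.H528.RatB.J2
import Cfsg.Agent.H630.RatB.B
import Cfsg.Agent.H630.RatB.Fi22
import Cfsg.Agent.H653.B0R.J4Seven
import Cfsg.Agent.H655.BR.Ly
import Cfsg.Agent.H655.BR.McL
import Cfsg.Agent.H657.Frob.Main
import Cfsg.Agent.H68.RatB.HN
import Cfsg.Agent.H68.RatB.Ru
import Cfsg.Agent.H685.BR.Defs
import Cfsg.Agent.H690.B0R.HSLy
import Cfsg.Agent.H690.B0R.HeRow
import Cfsg.Agent.H690.B0R.Janko
import Cfsg.Agent.H702.BR.FiTT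
import Cfsg.Agent.H702.BR.Final
import Cfsg.Agent.H702.BR.PairRow
import Cfsg.Agent.H713.B0R.FiFive
import Cfsg.Agent.H713.B0R.Rows
import Cfsg.Agent.H713.B0R.SuzFive
import Cfsg.Agent.H725.BR.HN
import Cfsg.Agent.H725.BR.Th
import Cfsg.Agent.H740.RatM.Perm
import Cfsg.Agent.H762.RatB.J4
import Cfsg.Agent.H788.RatB.Ly
import Cfsg.Agent.H796.BR.FiTT
import Cfsg.Agent.H796.BR.JFourRows
import Cfsg.Agent.H84.RatB.J4
import Cfsg.Agent.H848.RatB.Co3
import Cfsg.Agent.H852.IMSuz
import Cfsg.Agent.H852.RatB.ConSuz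
import Cfsg.Agent.H852.RatB.Gcd
import Cfsg.Agent.H968.Rat.WitRRows
import Cfsg.Agent.H978.RatB.Th
import Cfsg.Agent.NotCT.Orders

/-!
# S4857, S4858: the rows of the sporadic groups, `p` odd (helper852)
-/

set_option autoImplicit false
set_option maxRecDepth 100000

namespace Cfsg.Agent.H852.RatB.Spor57

open Cfsg Cfsg.Agent.H145.BR Cfsg.Agent.H685.BR Cfsg.Agent.H493.RatB Cfsg.Agent.H702.BR

theorem w {p : ℕ} [Fact p.Prime] {S : Type} [Group S] (h : WitR p S) : Row57 p S := by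
  intro M hM
  obtain ⟨θ, h1, h2, -, h4⟩ := h M hM
  exact ⟨θ, h1, h2, good_of_rat h4⟩

theorem frobAll {G : Type*} [Group G] [Finite G] : FrobAll G := by
  intro p hp hp2 h1 h2 M hM
  have := Fact.mk hp
  exact H657.Frob.frob hM hp2 h1 h2

theorem row57_of_j4Seven {S : Type} [Group S] (h : Spor.IsoJ4 S) : Row57 7 S := by
  have : Fact (Nat.Prime 7) := ⟨by norm_num⟩
  intro M hM
  obtain ⟨θ, h1, h2, -, h4⟩ := H653.B0R.J4Seven.result h hM
  exact ⟨θ, h1, h2, good_of_int h4⟩

/-- the pairs which are not yet proved -/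
structure Miss : Prop where
  m_17 : ∀ {S : Type} [Group S], Spor.IsoM S → Row57 17 S
  m_19 : ∀ {S : Type} [Group S], Spor.IsoM S → Row57 19 S
  m_23 : ∀ {S : Type} [Group S], Spor.IsoM S → Row57 23 S
  m_31 : ∀ {S : Type} [Group S], Spor.IsoM S → Row57 31 S

theorem row_m11 (_ : Miss) {p : ℕ} [hp : Fact p.Prime] (h2 : p ≠ 2) {S : Type} [Group S] [Finite S]
    [IsSimpleGroup S] (hna : ¬ IsMulCommutative S) (hd : p ∣ Nat.card S) (h : Spor.IsoM11 S) : Row57 p S := by
  have hc : Nat.card S = 7920 := NotCT.Orders.m11 h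
  have hm : p ∈ [2, 3, 5, 11] :=
    H852.IMSuz.prime_cases' hp.out [2, 3, 5, 11] (by decide) 4 (n := Nat.card S) hd (by rw [hc]; norm_num)
  simp only [List.mem_cons, List.not_mem_nil, or_false] at hm
  rcases hm with rfl | rfl | rfl | rfl
  · exact absurd rfl h2
  · exact w (H968.Rat.witR_m11 h)
  · exact row57_of_rowZ (rowZ_simple_five hna hd (by rw [hc]; norm_num))
  · exact row57_of_rowZ (H256.B0R.Math.rowZ_m11 h)

theorem row_m12 (_ : Miss) {p : ℕ} [hp : Fact p.Prime] (h2 : p ≠ 2) {S : Type} [Group S] [Finite S]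
    [IsSimpleGroup S] (hna : ¬ IsMulCommutative S) (hd : p ∣ Nat.card S) (h : Spor.IsoM12 S) : Row57 p S := by
  have hc : Nat.card S = 95040 := NotCT.Orders.m12 h
  have hm : p ∈ [2, 3, 5, 11] :=
    H852.IMSuz.prime_cases' hp.out [2, 3, 5, 11] (by decide) 6 (n := Nat.card S) hd (by rw [hc]; norm_num)
  simp only [List.mem_cons, List.not_mem_nil, or_false] at hm
  rcases hm with rfl | rfl | rfl | rfl
  · exact absurd rfl h2
  · exact w (H968.Rat.witR_m12 h)
  · exact row57_of_rowZ (rowZ_simple_five hna hd (by rw [hc]; norm_num))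
  · exact row57_of_rowZ (H256.B0R.Math.rowZ_m12 h)

theorem row_m22 (_ : Miss) {p : ℕ} [hp : Fact p.Prime] (h2 : p ≠ 2) {S : Type} [Group S] [Finite S]
    [IsSimpleGroup S] (hna : ¬ IsMulCommutative S) (hd : p ∣ Nat.card S) (h : Spor.IsoM22 S) : Row57 p S := by
  have hc : Nat.card S = 443520 := NotCT.Orders.m22 h
  have hm : p ∈ [2, 3, 5, 7, 11] :=
    H852.IMSuz.prime_cases' hp.out [2, 3, 5, 7, 11] (by decide) 7 (n := Nat.card S) hd (by rw [hc]; norm_num)
  simp only [List.mem_cons, List.not_mem_nil, or_false] at hm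
  rcases hm with rfl | rfl | rfl | rfl | rfl
  · exact absurd rfl h2
  · exact w (H968.Rat.witR_m22 h)
  · exact row57_of_rowZ (rowZ_simple_five hna hd (by rw [hc]; norm_num))
  · exact row57_of_rowZ (H256.B0R.Math.rowZ_m22 h (by norm_num))
  · exact row57_of_rowZ (H256.B0R.Math.rowZ_m22 h (by norm_num))

theorem row_m23 (_ : Miss) {p : ℕ} [hp : Fact p.Prime] (h2 : p ≠ 2) {S : Type} [Group S] [Finite S]
    [IsSimpleGroup S] (hna : ¬ IsMulCommutative S) (hd : p ∣ Nat.card S) (h : Spor.IsoM23 S) : Row57 p S := by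
  have hc : Nat.card S = 10200960 := NotCT.Orders.m23 h
  have hm : p ∈ [2, 3, 5, 7, 11, 23] :=
    H852.IMSuz.prime_cases' hp.out [2, 3, 5, 7, 11, 23] (by decide) 7 (n := Nat.card S) hd (by rw [hc]; norm_num)
  simp only [List.mem_cons, List.not_mem_nil, or_false] at hm
  rcases hm with rfl | rfl | rfl | rfl | rfl | rfl
  · exact absurd rfl h2
  · exact w (H968.Rat.witR_m23 h)
  · exact row57_of_rowZ (rowZ_simple_five hna hd (by rw [hc]; norm_num))
  · exact row57_of_rowZ (H256.B0R.Math.rowZ_m23 h (by norm_num))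
  · exact row57_of_rowZ (H256.B0R.Math.rowZ_m23 h (by norm_num))
  · exact row57_of_rowZ (H256.B0R.Math.rowZ_m23 h (by norm_num))

theorem row_m24 (_ : Miss) {p : ℕ} [hp : Fact p.Prime] (h2 : p ≠ 2) {S : Type} [Group S] [Finite S]
    [IsSimpleGroup S] (hna : ¬ IsMulCommutative S) (hd : p ∣ Nat.card S) (h : Spor.IsoM24 S) : Row57 p S := by
  have hc : Nat.card S = 244823040 := NotCT.Orders.m24 h
  have hm : p ∈ [2, 3, 5, 7, 11, 23] :=
    H852.IMSuz.prime_cases' hp.out [2, 3, 5, 7, 11, 23] (by decide) 10 (n := Nat.card S) hd (by rw [hc]; norm_num)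
  simp only [List.mem_cons, List.not_mem_nil, or_false] at hm
  rcases hm with rfl | rfl | rfl | rfl | rfl | rfl
  · exact absurd rfl h2
  · exact w (H968.Rat.witR_m24 h)
  · exact row57_of_rowZ (rowZ_simple_five hna hd (by rw [hc]; norm_num))
  · exact row57_of_rowZ (H256.B0R.Math.rowZ_m24 h (by norm_num))
  · exact row57_of_rowZ (H256.B0R.Math.rowZ_m24 h (by norm_num))
  · exact row57_of_rowZ (H256.B0R.Math.rowZ_m24 h (by norm_num))

theorem row_j1 (_ : Miss) {p : ℕ} [hp : Fact p.Prime] (h2 : p ≠ 2) {S : Type} [Group S] [Finite S]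
    [IsSimpleGroup S] (hna : ¬ IsMulCommutative S) (hd : p ∣ Nat.card S) (h : Spor.IsoJ1 S) : Row57 p S := by
  have hc : Nat.card S = 175560 := NotCT.Orders.j1 h
  have hm : p ∈ [2, 3, 5, 7, 11, 19] :=
    H852.IMSuz.prime_cases' hp.out [2, 3, 5, 7, 11, 19] (by decide) 3 (n := Nat.card S) hd (by rw [hc]; norm_num)
  simp only [List.mem_cons, List.not_mem_nil, or_false] at hm
  rcases hm with rfl | rfl | rfl | rfl | rfl | rfl
  · exact absurd rfl h2
  · exact row57_of_rowZ (rowZ_simple_three hna hd (by rw [hc]; norm_num))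
  · exact row57_of_rowZ (rowZ_simple_five hna hd (by rw [hc]; norm_num))
  · exact row57_of_rowZ (H690.B0R.rowZ_j1 h (by norm_num))
  · exact row57_of_rowZ (H690.B0R.rowZ_j1 h (by norm_num))
  · exact row57_of_rowZ (H690.B0R.rowZ_j1 h (by norm_num))

theorem row_j2 (_ : Miss) {p : ℕ} [hp : Fact p.Prime] (h2 : p ≠ 2) {S : Type} [Group S] [Finite S]
    [IsSimpleGroup S] (_ : ¬ IsMulCommutative S) (hd : p ∣ Nat.card S) (h : Spor.IsoJ2 S) : Row57 p S := by
  have hc : Nat.card S = 604800 := NotCT.Orders.j2 h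
  have hm : p ∈ [2, 3, 5, 7] :=
    H852.IMSuz.prime_cases' hp.out [2, 3, 5, 7] (by decide) 7 (n := Nat.card S) hd (by rw [hc]; norm_num)
  simp only [List.mem_cons, List.not_mem_nil, or_false] at hm
  rcases hm with rfl | rfl | rfl | rfl
  · exact absurd rfl h2
  · exact H528.RatB.J2.j2_three57 h
  · exact w (H968.Rat.witR_j2 h (by norm_num))
  · exact row57_of_rowZ (H690.B0R.rowZ_j2 h)

theorem row_j3 (_ : Miss) {p : ℕ} [hp : Fact p.Prime] (h2 : p ≠ 2) {S : Type} [Group S] [Finite S]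
    [IsSimpleGroup S] (hna : ¬ IsMulCommutative S) (hd : p ∣ Nat.card S) (h : Spor.IsoJ3 S) : Row57 p S := by
  have hc : Nat.card S = 50232960 := NotCT.Orders.j3 h
  have hm : p ∈ [2, 3, 5, 17, 19] :=
    H852.IMSuz.prime_cases' hp.out [2, 3, 5, 17, 19] (by decide) 7 (n := Nat.card S) hd (by rw [hc]; norm_num)
  simp only [List.mem_cons, List.not_mem_nil, or_false] at hm
  rcases hm with rfl | rfl | rfl | rfl | rfl
  · exact absurd rfl h2
  · exact w (H305.RatB.witR_J3 h)
  · exact row57_of_rowZ (rowZ_simple_five hna hd (by rw [hc]; norm_num))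
  · exact row57_of_rowZ (H690.B0R.rowZ_j3 h (by norm_num))
  · exact row57_of_rowZ (H690.B0R.rowZ_j3 h (by norm_num))

theorem row_j4 (_ : Miss) {p : ℕ} [hp : Fact p.Prime] (h2 : p ≠ 2) {S : Type} [Group S] [Finite S]
    [IsSimpleGroup S] (hna : ¬ IsMulCommutative S) (hd : p ∣ Nat.card S) (h : Spor.IsoJ4 S) : Row57 p S := by
  have hc : Nat.card S = 86775571046077562880 := NotCT.Orders.j4 h
  have hm : p ∈ [2, 3, 5, 7, 11, 23, 29, 31, 37, 43] :=
    H852.IMSuz.prime_cases' hp.out [2, 3, 5, 7, 11, 23, 29, 31, 37, 43] (by decide) 21 (n := Nat.card S) hd (by rw [hc]; norm_num)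
  simp only [List.mem_cons, List.not_mem_nil, or_false] at hm
  rcases hm with rfl | rfl | rfl | rfl | rfl | rfl | rfl | rfl | rfl | rfl
  · exact absurd rfl h2
  · exact w (H762.RatB.J4.witR_j4 h)
  · exact row57_of_rowZ (rowZ_simple_five hna hd (by rw [hc]; norm_num))
  · exact row57_of_j4Seven h
  · exact w (H84.RatB.J4.witR_j4_eleven h)
  · exact w (H796.BR.JFour.witR_j4 h (by decide))
  · exact w (H796.BR.JFour.witR_j4 h (by decide))
  · exact w (H796.BR.JFour.witR_j4 h (by decide))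
  · exact w (H796.BR.JFour.witR_j4 h (by decide))
  · exact w (H796.BR.JFour.witR_j4 h (by decide))

theorem row_co1 (_ : Miss) {p : ℕ} [hp : Fact p.Prime] (h2 : p ≠ 2) {S : Type} [Group S] [Finite S]
    [IsSimpleGroup S] (_ : ¬ IsMulCommutative S) (hd : p ∣ Nat.card S) (h : Spor.IsoCo1 S) : Row57 p S := by
  have hc : Nat.card S = 4157776806543360000 := NotCT.Orders.co1 h
  have hm : p ∈ [2, 3, 5, 7, 11, 13, 23] :=
    H852.IMSuz.prime_cases' hp.out [2, 3, 5, 7, 11, 13, 23] (by decide) 21 (n := Nat.card S) hd (by rw [hc]; norm_num)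
  simp only [List.mem_cons, List.not_mem_nil, or_false] at hm
  rcases hm with rfl | rfl | rfl | rfl | rfl | rfl | rfl
  · exact absurd rfl h2
  · exact w (H493.RatB.Co1.witR_co1 h (by norm_num))
  · exact w (H493.RatB.Co1.witR_co1 h (by norm_num))
  · exact w (H493.RatB.Co1.witR_co1 h (by norm_num))
  · exact row57_of_rowZ (H713.B0R.co1 h (by norm_num))
  · exact w (H493.RatB.Co1.witR_co1 h (by norm_num))
  · exact row57_of_rowZ (H713.B0R.co1 h (by norm_num))

theorem row_co2 (_ : Miss) {p : ℕ} [hp : Fact p.Prime] (h2 : p ≠ 2) {S : Type} [Group S] [Finite S]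
    [IsSimpleGroup S] (_ : ¬ IsMulCommutative S) (hd : p ∣ Nat.card S) (h : Spor.IsoCo2 S) : Row57 p S := by
  have hc : Nat.card S = 42305421312000 := NotCT.Orders.co2 h
  have hm : p ∈ [2, 3, 5, 7, 11, 23] :=
    H852.IMSuz.prime_cases' hp.out [2, 3, 5, 7, 11, 23] (by decide) 18 (n := Nat.card S) hd (by rw [hc]; norm_num)
  simp only [List.mem_cons, List.not_mem_nil, or_false] at hm
  rcases hm with rfl | rfl | rfl | rfl | rfl | rfl
  · exact absurd rfl h2
  · exact w (H493.RatB.Co2.witR_co2 h)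
  · exact w (H968.Rat.witR_co2 h (by norm_num))
  · exact row57_of_rowZ (H852.RatB.ConSuz.co2 h frobAll (by norm_num))
  · exact row57_of_rowZ (H852.RatB.ConSuz.co2 h frobAll (by norm_num))
  · exact row57_of_rowZ (H852.RatB.ConSuz.co2 h frobAll (by norm_num))

theorem row_co3 (_ : Miss) {p : ℕ} [hp : Fact p.Prime] (h2 : p ≠ 2) {S : Type} [Group S] [Finite S]
    [IsSimpleGroup S] (_ : ¬ IsMulCommutative S) (hd : p ∣ Nat.card S) (h : Spor.IsoCo3 S) : Row57 p S := by
  have hc : Nat.card S = 495766656000 := NotCT.Orders.co3 h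
  have hm : p ∈ [2, 3, 5, 7, 11, 23] :=
    H852.IMSuz.prime_cases' hp.out [2, 3, 5, 7, 11, 23] (by decide) 10 (n := Nat.card S) hd (by rw [hc]; norm_num)
  simp only [List.mem_cons, List.not_mem_nil, or_false] at hm
  rcases hm with rfl | rfl | rfl | rfl | rfl | rfl
  · exact absurd rfl h2
  · exact w (H848.RatB.Co3.witR_three h)
  · exact w (H848.RatB.Co3.witR_five h)
  · exact row57_of_rowZ (H852.RatB.ConSuz.co3 h frobAll (by norm_num))
  · exact row57_of_rowZ (H852.RatB.ConSuz.co3 h frobAll (by norm_num))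
  · exact row57_of_rowZ (H852.RatB.ConSuz.co3 h frobAll (by norm_num))

theorem row_mcl (_ : Miss) {p : ℕ} [hp : Fact p.Prime] (h2 : p ≠ 2) {S : Type} [Group S] [Finite S]
    [IsSimpleGroup S] (_ : ¬ IsMulCommutative S) (hd : p ∣ Nat.card S) (h : Spor.IsoMcL S) : Row57 p S := by
  have hc : Nat.card S = 898128000 := NotCT.Orders.mcl h
  have hm : p ∈ [2, 3, 5, 7, 11] :=
    H852.IMSuz.prime_cases' hp.out [2, 3, 5, 7, 11] (by decide) 7 (n := Nat.card S) hd (by rw [hc]; norm_num)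
  simp only [List.mem_cons, List.not_mem_nil, or_false] at hm
  rcases hm with rfl | rfl | rfl | rfl | rfl
  · exact absurd rfl h2
  · exact w (H493.RatB.McL.witR_mcl h (by norm_num))
  · exact w (H493.RatB.McL.witR_mcl h (by norm_num))
  · exact row57_of_rowZ (H655.BR.McL.rowZ_seven h)
  · exact w (H655.BR.McL.witR_eleven h)

theorem row_hs (_ : Miss) {p : ℕ} [hp : Fact p.Prime] (h2 : p ≠ 2) {S : Type} [Group S] [Finite S]
    [IsSimpleGroup S] (_ : ¬ IsMulCommutative S) (hd : p ∣ Nat.card S) (h : Spor.IsoHS S) : Row57 p S := by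
  have hc : Nat.card S = 44352000 := NotCT.Orders.hs h
  have hm : p ∈ [2, 3, 5, 7, 11] :=
    H852.IMSuz.prime_cases' hp.out [2, 3, 5, 7, 11] (by decide) 9 (n := Nat.card S) hd (by rw [hc]; norm_num)
  simp only [List.mem_cons, List.not_mem_nil, or_false] at hm
  rcases hm with rfl | rfl | rfl | rfl | rfl
  · exact absurd rfl h2
  · exact row57_of_rowQ (H702.BR.rowQ_hs_three h)
  · exact w (H493.RatB.witR_hs h (by norm_num))
  · exact row57_of_rowZ ((H690.B0R.rowZ_hs h).1)
  · exact row57_of_rowZ ((H690.B0R.rowZ_hs h).2)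

theorem row_suz (_ : Miss) {p : ℕ} [hp : Fact p.Prime] (h2 : p ≠ 2) {S : Type} [Group S] [Finite S]
    [IsSimpleGroup S] (_ : ¬ IsMulCommutative S) (hd : p ∣ Nat.card S) (h : Spor.IsoSuz S) : Row57 p S := by
  have hc : Nat.card S = 448345497600 := NotCT.Orders.suz h
  have hm : p ∈ [2, 3, 5, 7, 11, 13] :=
    H852.IMSuz.prime_cases' hp.out [2, 3, 5, 7, 11, 13] (by decide) 13 (n := Nat.card S) hd (by rw [hc]; norm_num)
  simp only [List.mem_cons, List.not_mem_nil, or_false] at hm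
  rcases hm with rfl | rfl | rfl | rfl | rfl | rfl
  · exact absurd rfl h2
  · exact w (H968.Rat.witR_suz h (by norm_num))
  · exact w (H713.B0R.SuzFive.witR_suz5 h)
  · exact row57_of_rowZ (H852.RatB.ConSuz.suz h frobAll (by norm_num))
  · exact row57_of_rowZ (H852.RatB.ConSuz.suz h frobAll (by norm_num))
  · exact row57_of_rowZ (H852.RatB.ConSuz.suz h frobAll (by norm_num))

theorem row_he (_ : Miss) {p : ℕ} [hp : Fact p.Prime] (h2 : p ≠ 2) {S : Type} [Group S] [Finite S]
    [IsSimpleGroup S] (_ : ¬ IsMulCommutative S) (hd : p ∣ Nat.card S) (h : Spor.IsoHe S) : Row57 p S := by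
  have hc : Nat.card S = 4030387200 := NotCT.Orders.he h
  have hm : p ∈ [2, 3, 5, 7, 17] :=
    H852.IMSuz.prime_cases' hp.out [2, 3, 5, 7, 17] (by decide) 10 (n := Nat.card S) hd (by rw [hc]; norm_num)
  simp only [List.mem_cons, List.not_mem_nil, or_false] at hm
  rcases hm with rfl | rfl | rfl | rfl | rfl
  · exact absurd rfl h2
  · exact w (H528.RatB.He.he_three h)
  · exact row57_of_rowQ (H528.RatB.HeFive.he_five57 h)
  · exact w (H528.RatB.He.he_seven h)
  · exact row57_of_rowZ (H690.B0R.HeRow.rowZ_he h)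

theorem row_ru (_ : Miss) {p : ℕ} [hp : Fact p.Prime] (h2 : p ≠ 2) {S : Type} [Group S] [Finite S]
    [IsSimpleGroup S] (_ : ¬ IsMulCommutative S) (hd : p ∣ Nat.card S) (h : Spor.IsoRu S) : Row57 p S := by
  have hc : Nat.card S = 145926144000 := NotCT.Orders.ru h
  have hm : p ∈ [2, 3, 5, 7, 13, 29] :=
    H852.IMSuz.prime_cases' hp.out [2, 3, 5, 7, 13, 29] (by decide) 14 (n := Nat.card S) hd (by rw [hc]; norm_num)
  simp only [List.mem_cons, List.not_mem_nil, or_false] at hm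
  rcases hm with rfl | rfl | rfl | rfl | rfl | rfl
  · exact absurd rfl h2
  · exact row57_of_rowQ (H436.RuThree.rowQ_ru_three h)
  · exact w (H68.RatB.Ru.witR_ru (by norm_num) h)
  · exact w (H68.RatB.Ru.witR_ru (by norm_num) h)
  · exact row57_of_rowZ (H495.RatB.Ru.rowZ_thirteen h)
  · exact w (H68.RatB.Ru.witR_ru (by norm_num) h)

theorem row_on (_ : Miss) {p : ℕ} [hp : Fact p.Prime] (h2 : p ≠ 2) {S : Type} [Group S] [Finite S]
    [IsSimpleGroup S] (hna : ¬ IsMulCommutative S) (hd : p ∣ Nat.card S) (h : Spor.IsoON S) : Row57 p S := by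
  have hc : Nat.card S = 460815505920 := NotCT.Orders.on h
  have hm : p ∈ [2, 3, 5, 7, 11, 19, 31] :=
    H852.IMSuz.prime_cases' hp.out [2, 3, 5, 7, 11, 19, 31] (by decide) 9 (n := Nat.card S) hd (by rw [hc]; norm_num)
  simp only [List.mem_cons, List.not_mem_nil, or_false] at hm
  rcases hm with rfl | rfl | rfl | rfl | rfl | rfl | rfl
  · exact absurd rfl h2
  · exact w (H315.RatB.ON.witR_on h (by norm_num))
  · exact row57_of_rowZ (rowZ_simple_five hna hd (by rw [hc]; norm_num))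
  · exact w (H315.RatB.ON.witR_on h (by norm_num))
  · exact w (H495.RatB.ON.witR_on h (by norm_num))
  · exact row57_of_rowZ (H495.RatB.ON.rowZ_nineteen h)
  · exact w (H495.RatB.ON.witR_on h (by norm_num))

theorem row_ly (_ : Miss) {p : ℕ} [hp : Fact p.Prime] (h2 : p ≠ 2) {S : Type} [Group S] [Finite S]
    [IsSimpleGroup S] (_ : ¬ IsMulCommutative S) (hd : p ∣ Nat.card S) (h : Spor.IsoLy S) : Row57 p S := by
  have hc : Nat.card S = 51765179004000000 := NotCT.Orders.ly h
  have hm : p ∈ [2, 3, 5, 7, 11, 31, 37, 67] :=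
    H852.IMSuz.prime_cases' hp.out [2, 3, 5, 7, 11, 31, 37, 67] (by decide) 8 (n := Nat.card S) hd (by rw [hc]; norm_num)
  simp only [List.mem_cons, List.not_mem_nil, or_false] at hm
  rcases hm with rfl | rfl | rfl | rfl | rfl | rfl | rfl | rfl
  · exact absurd rfl h2
  · exact w (H655.BR.LyRow.witR_of_index h (by norm_num))
  · exact w (H788.RatB.LyRow.witR_five h)
  · exact row57_of_rowZ ((H690.B0R.rowZ_ly h).1)
  · exact w (H655.BR.LyRow.witR_of_index h (by norm_num))
  · exact row57_of_rowZ ((H690.B0R.rowZ_ly h).2)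
  · exact w (H655.BR.LyRow.witR_of_index h (by norm_num))
  · exact w (H655.BR.LyRow.witR_of_index h (by norm_num))

theorem row_fi22 (_ : Miss) {p : ℕ} [hp : Fact p.Prime] (h2 : p ≠ 2) {S : Type} [Group S] [Finite S]
    [IsSimpleGroup S] (_ : ¬ IsMulCommutative S) (hd : p ∣ Nat.card S) (h : Spor.IsoFi22 S) : Row57 p S := by
  have hc : Nat.card S = 64561751654400 := NotCT.Orders.fi22 h
  have hm : p ∈ [2, 3, 5, 7, 11, 13] :=
    H852.IMSuz.prime_cases' hp.out [2, 3, 5, 7, 11, 13] (by decide) 17 (n := Nat.card S) hd (by rw [hc]; norm_num)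
  simp only [List.mem_cons, List.not_mem_nil, or_false] at hm
  rcases hm with rfl | rfl | rfl | rfl | rfl | rfl
  · exact absurd rfl h2
  · exact w (H153.RatB.witR_fi22 h (by norm_num))
  · exact w (H153.RatB.witR_fi22 h (by norm_num))
  · exact row57_of_rowZ (H630.RatB.Fi22.rowZ_seven h)
  · exact w ((H630.RatB.Fi22.witZ frobAll (by norm_num) h).witR)
  · exact w (H153.RatB.witR_fi22 h (by norm_num))

theorem row_fi23 (_ : Miss) {p : ℕ} [hp : Fact p.Prime] (h2 : p ≠ 2) {S : Type} [Group S] [Finite S]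
    [IsSimpleGroup S] (_ : ¬ IsMulCommutative S) (hd : p ∣ Nat.card S) (h : Spor.IsoFi23 S) : Row57 p S := by
  have hc : Nat.card S = 4089470473293004800 := NotCT.Orders.fi23 h
  have hm : p ∈ [2, 3, 5, 7, 11, 13, 17, 23] :=
    H852.IMSuz.prime_cases' hp.out [2, 3, 5, 7, 11, 13, 17, 23] (by decide) 18 (n := Nat.card S) hd (by rw [hc]; norm_num)
  simp only [List.mem_cons, List.not_mem_nil, or_false] at hm
  rcases hm with rfl | rfl | rfl | rfl | rfl | rfl | rfl | rfl
  · exact absurd rfl h2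
  · exact w (H153.RatB.witR_fi23 h (by norm_num))
  · exact row57_of_rowQ (H702.BR.rowQ_fi23_five h)
  · exact w ((H702.BR.FiTT.witZ frobAll (by norm_num) h).witR)
  · exact w (H796.BR.FiTT.witR_fi23 h (by decide))
  · exact w ((H702.BR.FiTT.witZ frobAll (by norm_num) h).witR)
  · exact w (H153.RatB.witR_fi23 h (by norm_num))
  · exact w (H153.RatB.witR_fi23 h (by norm_num))

theorem row_fi24 (_ : Miss) {p : ℕ} [hp : Fact p.Prime] (h2 : p ≠ 2) {S : Type} [Group S] [Finite S]
    [IsSimpleGroup S] (_ : ¬ IsMulCommutative S) (hd : p ∣ Nat.card S) (h : Spor.IsoFi24' S) : Row57 p S := by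
  have hc : Nat.card S = 1255205709190661721292800 := NotCT.Orders.fi24 h
  have hm : p ∈ [2, 3, 5, 7, 11, 13, 17, 23, 29] :=
    H852.IMSuz.prime_cases' hp.out [2, 3, 5, 7, 11, 13, 17, 23, 29] (by decide) 21 (n := Nat.card S) hd (by rw [hc]; norm_num)
  simp only [List.mem_cons, List.not_mem_nil, or_false] at hm
  rcases hm with rfl | rfl | rfl | rfl | rfl | rfl | rfl | rfl | rfl
  · exact absurd rfl h2
  · exact w (H153.RatB.witR_fi24 h (by norm_num))
  · exact row57_of_rowQ (H713.B0R.FiFive.rowQ_fi24' h)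
  · exact w (H153.RatB.witR_fi24 h (by norm_num))
  · exact row57_of_rowZ (H713.B0R.fi24 h (by norm_num))
  · exact row57_of_rowZ (H713.B0R.fi24 h (by norm_num))
  · exact row57_of_rowZ (H713.B0R.fi24 h (by norm_num))
  · exact row57_of_rowZ (H713.B0R.fi24 h (by norm_num))
  · exact w (H153.RatB.witR_fi24 h (by norm_num))

theorem row_hn (_ : Miss) {p : ℕ} [hp : Fact p.Prime] (h2 : p ≠ 2) {S : Type} [Group S] [Finite S]
    [IsSimpleGroup S] (_ : ¬ IsMulCommutative S) (hd : p ∣ Nat.card S) (h : Spor.IsoHN S) : Row57 p S := by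
  have hc : Nat.card S = 273030912000000 := NotCT.Orders.hn h
  have hm : p ∈ [2, 3, 5, 7, 11, 19] :=
    H852.IMSuz.prime_cases' hp.out [2, 3, 5, 7, 11, 19] (by decide) 14 (n := Nat.card S) hd (by rw [hc]; norm_num)
  simp only [List.mem_cons, List.not_mem_nil, or_false] at hm
  rcases hm with rfl | rfl | rfl | rfl | rfl | rfl
  · exact absurd rfl h2
  · exact w (H68.RatB.witR_hn (by norm_num) h)
  · exact w (H68.RatB.witR_hn (by norm_num) h)
  · exact row57_of_rowZ (H725.BR.HN.row h (by norm_num))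
  · exact row57_of_rowZ (H725.BR.HN.row h (by norm_num))
  · exact w (H68.RatB.witR_hn (by norm_num) h)

theorem row_th (_ : Miss) {p : ℕ} [hp : Fact p.Prime] (h2 : p ≠ 2) {S : Type} [Group S] [Finite S]
    [IsSimpleGroup S] (_ : ¬ IsMulCommutative S) (hd : p ∣ Nat.card S) (h : Spor.IsoTh S) : Row57 p S := by
  have hc : Nat.card S = 90745943887872000 := NotCT.Orders.th h
  have hm : p ∈ [2, 3, 5, 7, 13, 19, 31] :=
    H852.IMSuz.prime_cases' hp.out [2, 3, 5, 7, 13, 19, 31] (by decide) 15 (n := Nat.card S) hd (by rw [hc]; norm_num)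
  simp only [List.mem_cons, List.not_mem_nil, or_false] at hm
  rcases hm with rfl | rfl | rfl | rfl | rfl | rfl | rfl
  · exact absurd rfl h2
  · exact w (H978.RatB.th_three h)
  · exact w (H978.RatB.th_five h)
  · exact w (H978.RatB.th_seven h)
  · exact row57_of_rowZ (H725.BR.Th.row h (by norm_num))
  · exact row57_of_rowZ (H725.BR.Th.row h (by norm_num))
  · exact row57_of_rowZ (H725.BR.Th.row h (by norm_num))

theorem row_b (_ : Miss) {p : ℕ} [hp : Fact p.Prime] (h2 : p ≠ 2) {S : Type} [Group S] [Finite S]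
    [IsSimpleGroup S] (_ : ¬ IsMulCommutative S) (hd : p ∣ Nat.card S) (h : Spor.IsoB S) : Row57 p S := by
  have hc : Nat.card S = 4154781481226426191177580544000000 := NotCT.Orders.b h
  have hm : p ∈ [2, 3, 5, 7, 11, 13, 17, 19, 23, 31, 47] :=
    H852.IMSuz.prime_cases' hp.out [2, 3, 5, 7, 11, 13, 17, 19, 23, 31, 47] (by decide) 41 (n := Nat.card S) hd (by rw [hc]; norm_num)
  simp only [List.mem_cons, List.not_mem_nil, or_false] at hm
  rcases hm with rfl | rfl | rfl | rfl | rfl | rfl | rfl | rfl | rfl | rfl | rfl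
  · exact absurd rfl h2
  · exact w (H630.RatB.witR_b (by norm_num) h)
  · exact w (H630.RatB.witR_b (by norm_num) h)
  · exact row57_of_rowQ (H436.B7.rowQ_seven h)
  · exact row57_of_rowZ (H256.B0R.B.rowZ_b h (by decide))
  · exact row57_of_rowZ (H256.B0R.B.rowZ_b h (by decide))
  · exact row57_of_rowZ (H256.B0R.B.rowZ_b h (by decide))
  · exact row57_of_rowZ (H256.B0R.B.rowZ_b h (by decide))
  · exact w (H630.RatB.witR_b (by norm_num) h)
  · exact w (H630.RatB.witR_b (by norm_num) h)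
  · exact w (H630.RatB.witR_b (by norm_num) h)

theorem row_m (R : Miss) {p : ℕ} [hp : Fact p.Prime] (h2 : p ≠ 2) {S : Type} [Group S] [Finite S]
    [IsSimpleGroup S] (_ : ¬ IsMulCommutative S) (hd : p ∣ Nat.card S) (h : Spor.IsoM S) : Row57 p S := by
  have hc : Nat.card S = 808017424794512875886459904961710757005754368000000000 := NotCT.Orders.m h
  have hm : p ∈ [2, 3, 5, 7, 11, 13, 17, 19, 23, 29, 31, 41, 47, 59, 71] :=
    H852.IMSuz.prime_cases' hp.out [2, 3, 5, 7, 11, 13, 17, 19, 23, 29, 31, 41, 47, 59, 71] (by decide) 46 (n := Nat.card S) hd (by rw [hc]; norm_num)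
  simp only [List.mem_cons, List.not_mem_nil, or_false] at hm
  rcases hm with rfl | rfl | rfl | rfl | rfl | rfl | rfl | rfl | rfl | rfl | rfl | rfl | rfl | rfl | rfl
  · exact absurd rfl h2
  · exact w (H740.RatM.witR_m (by norm_num) h)
  · exact w (H740.RatM.witR_m (by norm_num) h)
  · exact w (H740.RatM.witR_m (by norm_num) h)
  · exact w (H740.RatM.witR_m (by norm_num) h)
  · exact w (H740.RatM.witR_m (by norm_num) h)
  · exact R.m_17 h
  · exact R.m_19 h
  · exact R.m_23 h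
  · exact w (H740.RatM.witR_m (by norm_num) h)
  · exact R.m_31 h
  · exact w (H740.RatM.witR_m (by norm_num) h)
  · exact w (H436.B0M.witR_m (by norm_num) h)
  · exact w (H740.RatM.witR_m (by norm_num) h)
  · exact w (H740.RatM.witR_m (by norm_num) h)

theorem row (R : Miss) {p : ℕ} [hp : Fact p.Prime] (h2 : p ≠ 2) {S : Type} [Group S] [Finite S]
    [IsSimpleGroup S] (hna : ¬ IsMulCommutative S) (hd : p ∣ Nat.card S) (h : IsSporadicGroup S) : Row57 p S := by
  rcases h with h | h | h | h | h | h | h | h | h | h | h | h | h | h | h | h | h | h | h | h | h | h | h | h | h | h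
  · exact row_m11 R h2 hna hd h
  · exact row_m12 R h2 hna hd h
  · exact row_m22 R h2 hna hd h
  · exact row_m23 R h2 hna hd h
  · exact row_m24 R h2 hna hd h
  · exact row_j1 R h2 hna hd h
  · exact row_j2 R h2 hna hd h
  · exact row_j3 R h2 hna hd h
  · exact row_j4 R h2 hna hd h
  · exact row_co1 R h2 hna hd h
  · exact row_co2 R h2 hna hd h
  · exact row_co3 R h2 hna hd h
  · exact row_mcl R h2 hna hd h
  · exact row_hs R h2 hna hd h
  · exact row_suz R h2 hna hd h
  · exact row_he R h2 hna hd h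
  · exact row_ru R h2 hna hd h
  · exact row_on R h2 hna hd h
  · exact row_ly R h2 hna hd h
  · exact row_fi22 R h2 hna hd h
  · exact row_fi23 R h2 hna hd h
  · exact row_fi24 R h2 hna hd h
  · exact row_hn R h2 hna hd h
  · exact row_th R h2 hna hd h
  · exact row_b R h2 hna hd h
  · exact row_m R h2 hna hd h

/-- **the field `spor` of `Rows57`** -/
theorem spor57 (R : Miss) {p : ℕ} [hp : Fact p.Prime] (hp2 : p ≠ 2) : RowFor57 p (fun X _ => IsSporadicGroup X) :=
  fun _ _ _ _ hna hd h => row R hp2 hna hd h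

end Cfsg.Agent.H852.RatB.Spor57
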